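import Cfsg.Agent.H50.RG.LStmts
import Cfsg.Agent.LieClassical.SLGen
import Cfsg.Agent.H358.Bs.BridgeSL

/-!
# S5714, RG-L16: `SL(V)` is generated by two opposite unipotent radicals (helper38)
-/

set_option autoImplicit false

namespace Cfsg.Agent.H38.RG

open Module Matrix Cfsg.Agent.H847.Bs Cfsg.Agent.H50.RG Cfsg.Agent.H358.Bs Cfsg.Agent.LieClassical.SLGen
open scoped commutatorElement

section Phi

variable {F V : Type*} [Field F] [AddCommGroup V] [Module F V] {ι : Type*} [Fintype ι] [DecidableEq ι]
  (b : Basis ι F V)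

/-- `SL_n(F) → GL(V)` -/
noncomputable def phi : SpecialLinearGroup ι F →* (V ≃ₗ[F] V) :=
  (conjE b.equivFun.symm).toMonoidHom.comp SpecialLinearGroup.toLin'

theorem phi_apply (g : SpecialLinearGroup ι F) (x : V) :
    phi b g x = b.equivFun.symm (SpecialLinearGroup.toLin' g (b.equivFun x)) := rfl

theorem slV_le_range : slV F V ≤ (phi b).range := by
  intro g hg
  have h1 : (conjE b.equivFun g) ∈ slV F (ι → F) := by
    rw [← map_slV b.equivFun]
    exact ⟨g, hg, rfl⟩
  have h2 : LinearMap.det (conjE b.equivFun g : (ι → F) →ₗ[F] (ι → F)) = 1 := h1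
  obtain ⟨M, h3⟩ : ∃ M : SpecialLinearGroup ι F, SpecialLinearGroup.toLin' M = conjE b.equivFun g := by
    refine ⟨⟨LinearMap.toMatrix' (conjE b.equivFun g : (ι → F) →ₗ[F] (ι → F)), by rw [LinearMap.det_toMatrix', h2]⟩, ?_⟩
    apply LinearEquiv.toLinearMap_injective
    exact Matrix.toLin'_toMatrix' _
  refine ⟨M, ?_⟩
  ext x
  rw [phi_apply, h3, conjE_apply', LinearEquiv.symm_apply_apply]

theorem phi_transvection {i j : ι} (h : i ≠ j) (c : F) (x : V) :
    phi b (SpecialLinearGroup.transvection h c) x = x + (c * b.repr x j) • b i := by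
  rw [phi_apply]
  have h1 : SpecialLinearGroup.toLin' (SpecialLinearGroup.transvection h c : SpecialLinearGroup ι F) (b.equivFun x) =
      b.equivFun x + (c * b.equivFun x j) • Pi.single i (1 : F) := transvection_smul h c (b.equivFun x)
  have h2 : b.equivFun.symm (Pi.single i (1 : F)) = b i := by
    rw [LinearEquiv.symm_apply_eq]
    ext k
    rw [b.equivFun_self, Pi.single_apply]
    simp only [eq_comm]
  rw [h1, map_add, map_smul, LinearEquiv.symm_apply_apply, h2, Basis.equivFun_apply]

end Phi

/-- the radicals have determinant one -/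
theorem homS_le {F V : Type*} [Field F] [AddCommGroup V] [Module F V] [Module.Finite F V] (A : Submodule F V) :
    HomS A ≤ slV F V := by
  rintro g ⟨h1, h2⟩
  show LinearMap.det (g : V →ₗ[F] V) = 1
  have he : A ≤ A.comap (g : V →ₗ[F] V) := by
    intro a ha
    rw [Submodule.mem_comap]
    show g a ∈ A
    rw [h2 a ha]
    exact ha
  rw [LinearMap.det_eq_det_mul_det A (g : V →ₗ[F] V) he]
  have e1 : (g : V →ₗ[F] V).restrict he = LinearMap.id := by
    ext a
    exact h2 a a.2
  have e2 : A.mapQ A (g : V →ₗ[F] V) he = LinearMap.id := by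
    apply LinearMap.ext
    intro x
    obtain ⟨x, rfl⟩ := A.mkQ_surjective x
    show A.mkQ (g x) = A.mkQ x
    rw [← sub_eq_zero, ← map_sub, Submodule.mkQ_apply, Submodule.Quotient.mk_eq_zero]
    exact h1 x
  rw [e1, e2, LinearMap.det_id, LinearMap.det_id, one_mul]

/-- **RG-L16** -/
theorem l16 : L16 := by
  intro F V _ _ _ _ _ A C hAC hA hC
  classical
  apply le_antisymm
  · exact sup_le (homS_le A) (homS_le C)
  · let bA := Module.finBasis F A
    let bC := Module.finBasis F C
    let b : Basis (Fin (finrank F A) ⊕ Fin (finrank F C)) F V := (bA.prod bC).map (Submodule.prodEquivOfIsCompl A C hAC)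
    have hbl : ∀ i, b (Sum.inl i) = bA i := by
      intro i
      simp [b]
    have hbr : ∀ i, b (Sum.inr i) = bC i := by
      intro i
      simp [b]
    have hrl : ∀ x ∈ C, ∀ i, b.repr x (Sum.inl i) = 0 := by
      intro x hx i
      have h1 := Submodule.prodEquivOfIsCompl_symm_apply_right A C hAC ⟨x, hx⟩
      simp only at h1
      simp [b, h1]
    have hrr : ∀ x ∈ A, ∀ i, b.repr x (Sum.inr i) = 0 := by
      intro x hx i
      have h1 := Submodule.prodEquivOfIsCompl_symm_apply_left A C hAC ⟨x, hx⟩
      simp only at h1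
      simp [b, h1]
    have key1 : ∀ i j (h : (Sum.inl i : Fin (finrank F A) ⊕ Fin (finrank F C)) ≠ Sum.inr j) (c : F),
        phi b (SpecialLinearGroup.transvection h c) ∈ HomS A := by
      intro i j h c
      refine ⟨fun x => ?_, fun a ha => ?_⟩
      · rw [phi_transvection, add_sub_cancel_left, hbl]
        exact A.smul_mem _ (bA i).2
      · rw [phi_transvection, hrr a ha, mul_zero, zero_smul, add_zero]
    have key2 : ∀ i j (h : (Sum.inr i : Fin (finrank F A) ⊕ Fin (finrank F C)) ≠ Sum.inl j) (c : F),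
        phi b (SpecialLinearGroup.transvection h c) ∈ HomS C := by
      intro i j h c
      refine ⟨fun x => ?_, fun a ha => ?_⟩
      · rw [phi_transvection, add_sub_cancel_left, hbr]
        exact C.smul_mem _ (bC i).2
      · rw [phi_transvection, hrl a ha, mul_zero, zero_smul, add_zero]
    have hl : HomS A ≤ HomS A ⊔ HomS C := le_sup_left
    have hr : HomS C ≤ HomS A ⊔ HomS C := le_sup_right
    have posA : 0 < finrank F A := Module.finrank_pos_iff.2 (Submodule.nontrivial_iff_ne_bot.2 hA)
    have posC : 0 < finrank F C := Module.finrank_pos_iff.2 (Submodule.nontrivial_iff_ne_bot.2 hC)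
    have key : ∀ (i j : Fin (finrank F A) ⊕ Fin (finrank F C)) (h : i ≠ j) (c : F),
        phi b (SpecialLinearGroup.transvection h c) ∈ HomS A ⊔ HomS C := by
      have hcomm : ∀ (i j k : Fin (finrank F A) ⊕ Fin (finrank F C)) (h : i ≠ j) (hik : i ≠ k) (hkj : k ≠ j) (c : F),
          phi b (SpecialLinearGroup.transvection hik c) ∈ HomS A ⊔ HomS C →
          phi b (SpecialLinearGroup.transvection hkj 1) ∈ HomS A ⊔ HomS C →
          phi b (SpecialLinearGroup.transvection h c) ∈ HomS A ⊔ HomS C := by
        intro i j k h hik hkj c h1 h2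
        have h3 := commutator_transvection h hik hkj c (1 : F)
        rw [mul_one] at h3
        rw [← h3, map_commutatorElement, commutatorElement_def]
        exact mul_mem (mul_mem (mul_mem h1 h2) (inv_mem h1)) (inv_mem h2)
      rintro (i | i) (j | j) h c
      · exact hcomm _ _ (Sum.inr ⟨0, posC⟩) h (by simp) (by simp) c (hl (key1 _ _ _ _)) (hr (key2 _ _ _ _))
      · exact hl (key1 _ _ _ _)
      · exact hr (key2 _ _ _ _)
      · exact hcomm _ _ (Sum.inl ⟨0, posA⟩) h (by simp) (by simp) c (hr (key2 _ _ _ _)) (hl (key1 _ _ _ _))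
    refine (slV_le_range b).trans ?_
    rw [MonoidHom.range_eq_map, ← closure_transvections, MonoidHom.map_closure, Subgroup.closure_le]
    rintro _ ⟨_, ⟨i, j, h, c, rfl⟩, rfl⟩
    exact key i j h c

end Cfsg.Agent.H38.RG
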